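import Mathlib
import Groth.Prelude.Def_CAlgX

set_option autoImplicit false
universe u

namespace Groth.Agent.H2.P11

open TensorProduct

namespace FPLimit

variable (R : Type u) [CommRing R] (M : Type u) [AddCommGroup M] [Module R M]

/-- The inclusion of finite subtypes. -/
def inc {s t : Finset M} (h : s ⊆ t) : s → t := fun x => ⟨x.1, h x.2⟩

/-- The map from the free module on a finite subset. -/
noncomputable def pr (s : Finset M) : (s →₀ R) →ₗ[R] M :=
  Finsupp.linearCombination R (Subtype.val : s → M)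

/-- The map of free modules induced by an inclusion of finite subsets. -/
noncomputable def ext {s t : Finset M} (h : s ⊆ t) : (s →₀ R) →ₗ[R] (t →₀ R) :=
  Finsupp.lmapDomain R R (inc M h)

lemma pr_ext {s t : Finset M} (h : s ⊆ t) (v : s →₀ R) : pr R M t (ext R M h v) = pr R M s v := by
  have := Finsupp.linearCombination_comp_lmapDomain (R := R) (v' := (Subtype.val : t → M)) (inc M h)
  exact LinearMap.congr_fun this v

lemma ext_refl (s : Finset M) (h : s ⊆ s) : ext R M h = LinearMap.id := by
  have : inc M h = id := rfl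
  rw [ext, this, Finsupp.lmapDomain_id]

lemma ext_trans {s t w : Finset M} (h : s ⊆ t) (h' : t ⊆ w) :
    (ext R M h').comp (ext R M h) = ext R M (h.trans h') := by
  rw [ext, ext, ← Finsupp.lmapDomain_comp]
  rfl

/-- Index set: a finite set of generators and a finitely generated module of relations among them. -/
structure Idx where
  s : Finset M
  K : Submodule R (s →₀ R)
  fg : K.FG
  le_ker : K ≤ LinearMap.ker (pr R M s)

variable {R M}

instance : Preorder (Idx R M) where
  le a b := ∃ h : a.s ⊆ b.s, a.K.map (ext R M h) ≤ b.K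
  le_refl a := ⟨subset_rfl, by rw [ext_refl, Submodule.map_id]⟩
  le_trans a b c h1 h2 := by
    obtain ⟨h1, h1'⟩ := h1
    obtain ⟨h2, h2'⟩ := h2
    refine ⟨h1.trans h2, ?_⟩
    rw [← ext_trans R M h1 h2, Submodule.map_comp]
    exact (Submodule.map_mono h1').trans h2'

lemma le_def (a b : Idx R M) : a ≤ b ↔ ∃ h : a.s ⊆ b.s, a.K.map (ext R M h) ≤ b.K := Iff.rfl

instance : Nonempty (Idx R M) :=
  ⟨⟨∅, ⊥, Submodule.fg_bot, bot_le⟩⟩

noncomputable instance : DecidableEq (Idx R M) := Classical.decEq _

instance : IsDirected (Idx R M) (· ≤ ·) where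
  directed a b := by
    classical
    have ha : a.s ⊆ a.s ∪ b.s := Finset.subset_union_left
    have hb : b.s ⊆ a.s ∪ b.s := Finset.subset_union_right
    refine ⟨⟨a.s ∪ b.s, a.K.map (ext R M ha) ⊔ b.K.map (ext R M hb), (a.fg.map _).sup (b.fg.map _), ?_⟩,
      ⟨ha, le_sup_left⟩, ⟨hb, le_sup_right⟩⟩
    refine sup_le ?_ ?_
    · rintro _ ⟨v, hv, rfl⟩
      rw [LinearMap.mem_ker, pr_ext]
      exact a.le_ker hv
    · rintro _ ⟨v, hv, rfl⟩
      rw [LinearMap.mem_ker, pr_ext]
      exact b.le_ker hv

variable (R M)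

/-- The finitely presented module attached to an index. -/
def G (a : Idx R M) : Type u := (a.s →₀ R) ⧸ a.K

noncomputable instance (a : Idx R M) : AddCommGroup (G R M a) :=
  inferInstanceAs (AddCommGroup ((a.s →₀ R) ⧸ a.K))

noncomputable instance (a : Idx R M) : Module R (G R M a) :=
  inferInstanceAs (Module R ((a.s →₀ R) ⧸ a.K))

/-- The quotient map. -/
noncomputable def mk (a : Idx R M) : (a.s →₀ R) →ₗ[R] G R M a := a.K.mkQ

lemma mk_surjective (a : Idx R M) : Function.Surjective (mk R M a) := Submodule.mkQ_surjective _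

lemma ker_mk (a : Idx R M) : LinearMap.ker (mk R M a) = a.K := Submodule.ker_mkQ _

lemma mk_eq_zero (a : Idx R M) (v : a.s →₀ R) : mk R M a v = 0 ↔ v ∈ a.K := by
  rw [← LinearMap.mem_ker, ker_mk]

/-- Transition maps. -/
noncomputable def tr (a b : Idx R M) (h : a ≤ b) : G R M a →ₗ[R] G R M b :=
  Submodule.mapQ a.K b.K (ext R M h.choose) (Submodule.map_le_iff_le_comap.mp h.choose_spec)

lemma tr_mk (a b : Idx R M) (h : a ≤ b) (v : a.s →₀ R) :
    tr R M a b h (mk R M a v) = mk R M b (ext R M h.choose v) := rfl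

instance : DirectedSystem (G R M) (fun a b h => tr R M a b h) where
  map_self a x := by
    obtain ⟨v, rfl⟩ := mk_surjective R M a x
    rw [tr_mk, ext_refl]
    rfl
  map_map c b a hab hbc x := by
    obtain ⟨v, rfl⟩ := mk_surjective R M a x
    rw [tr_mk, tr_mk, tr_mk]
    congr 1
    exact LinearMap.congr_fun (ext_trans R M _ _) v

/-- The maps to `M`. -/
noncomputable def toM (a : Idx R M) : G R M a →ₗ[R] M :=
  Submodule.liftQ a.K (pr R M a.s) a.le_ker

lemma toM_mk (a : Idx R M) (v : a.s →₀ R) :
    toM R M a (mk R M a v) = pr R M a.s v := rfl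

lemma toM_tr (a b : Idx R M) (h : a ≤ b) (x : G R M a) : toM R M b (tr R M a b h x) = toM R M a x := by
  obtain ⟨v, rfl⟩ := mk_surjective R M a x
  rw [tr_mk, toM_mk, toM_mk, pr_ext]

/-- The comparison map. -/
noncomputable def cmp : Module.DirectLimit (G R M) (tr R M) →ₗ[R] M :=
  Module.DirectLimit.lift R (Idx R M) (G R M) (tr R M) (toM R M) (fun a b h x => toM_tr R M a b h x)

lemma cmp_surjective : Function.Surjective (cmp R M) := by
  intro m
  refine ⟨Module.DirectLimit.of R (Idx R M) (G R M) (tr R M)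
    ⟨{m}, ⊥, Submodule.fg_bot, bot_le⟩
      (mk R M _ (Finsupp.single ⟨m, Finset.mem_singleton_self m⟩ 1)), ?_⟩
  rw [cmp, Module.DirectLimit.lift_of, toM_mk]
  show Finsupp.linearCombination R (Subtype.val : ({m} : Finset M) → M) _ = m
  rw [Finsupp.linearCombination_single, one_smul]

lemma cmp_injective : Function.Injective (cmp R M) := by
  rw [injective_iff_map_eq_zero]
  intro x hx
  obtain ⟨a, y, rfl⟩ := Module.DirectLimit.exists_of x
  obtain ⟨v, rfl⟩ := mk_surjective R M a y
  rw [cmp, Module.DirectLimit.lift_of, toM_mk] at hx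
  have hb : a ≤ (⟨a.s, a.K ⊔ Submodule.span R {v}, a.fg.sup (Submodule.fg_span_singleton _),
      sup_le a.le_ker (by
        rw [Submodule.span_singleton_le_iff_mem]
        exact hx)⟩ : Idx R M) :=
    ⟨subset_rfl, by rw [ext_refl, Submodule.map_id]; exact le_sup_left⟩
  rw [← Module.DirectLimit.of_f (hij := hb), tr_mk, ext_refl, LinearMap.id_apply]
  have : mk R M (⟨a.s, a.K ⊔ Submodule.span R {v}, a.fg.sup (Submodule.fg_span_singleton _),
      sup_le a.le_ker (by
        rw [Submodule.span_singleton_le_iff_mem]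
        exact hx)⟩ : Idx R M) v = 0 := by
    rw [mk_eq_zero]
    exact Submodule.mem_sup_right (Submodule.mem_span_singleton_self _)
  rw [this, map_zero]

lemma fp (a : Idx R M) : Module.FinitePresentation R (G R M a) := by
  refine Module.finitePresentation_of_surjective (mk R M a) (mk_surjective R M a) ?_
  rw [ker_mk]
  exact a.fg

end FPLimit

/-- Every module is a direct limit of finitely presented modules. -/
theorem exists_directLimit_fp (R : Type u) [CommRing R] (M : Type u) [AddCommGroup M] [Module R M] :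
    ∃ (ι : Type u) (_ : Preorder ι) (_ : IsDirected ι (· ≤ ·)) (_ : Nonempty ι) (_ : DecidableEq ι)
      (G : ι → Type u) (_ : ∀ i, AddCommGroup (G i)) (_ : ∀ i, Module R (G i))
      (f : ∀ i j, i ≤ j → G i →ₗ[R] G j) (_ : DirectedSystem G fun i j h => f i j h),
      (∀ i, Module.FinitePresentation R (G i)) ∧ Nonempty (Module.DirectLimit G f ≃ₗ[R] M) :=
  ⟨FPLimit.Idx R M, inferInstance, inferInstance, inferInstance, inferInstance, FPLimit.G R M,
    inferInstance, inferInstance, FPLimit.tr R M, inferInstance, FPLimit.fp R M,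
    ⟨LinearEquiv.ofBijective (FPLimit.cmp R M) ⟨FPLimit.cmp_injective R M, FPLimit.cmp_surjective R M⟩⟩⟩

end Groth.Agent.H2.P11
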